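import Mathlib

/-! The filtration of Witt vectors by truncation: completeness, nilpotency of the steps. -/

universe u

namespace Groth.Agent.WittProj

variable {p : ℕ} [Fact p.Prime] {R : Type u} [CommRing R]

variable (p R) in
/-- The kernel of the truncation. -/
noncomputable abbrev I (n : ℕ) : Ideal (WittVector p R) :=
  RingHom.ker (WittVector.truncate (p := p) (R := R) n)

theorem mem_I_iff (n : ℕ) (x : WittVector p R) : x ∈ I p R n ↔ ∀ i < n, x.coeff i = 0 :=
  WittVector.mem_ker_truncate _ _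

theorem sub_mem_I_iff (n : ℕ) (x y : WittVector p R) : x - y ∈ I p R n ↔ ∀ i < n, x.coeff i = y.coeff i := by
  rw [RingHom.sub_mem_ker_iff]
  constructor
  · intro h i hi
    simpa [WittVector.coeff_truncate] using congrArg (fun z => z.coeff ⟨i, hi⟩) h
  · intro h
    exact TruncatedWittVector.ext fun i => by simpa [WittVector.coeff_truncate] using h i i.isLt

theorem I_anti : Antitone (I p R) := fun m n hmn x hx =>
  (mem_I_iff m x).2 fun i hi => (mem_I_iff n x).1 hx i (hi.trans_le hmn)

theorem eq_zero_of_forall_mem {x : WittVector p R} (h : ∀ n, x ∈ I p R n) : x = 0 :=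
  WittVector.ext fun i => by rw [(mem_I_iff (i + 1) x).1 (h _) i (Nat.lt_succ_self i), WittVector.zero_coeff]

theorem iInf_I : ⨅ n, I p R n = ⊥ := TruncatedWittVector.iInf_ker_truncate

theorem exists_limit (s : ℕ → WittVector p R) (h : ∀ n, s (n + 1) - s n ∈ I p R n) :
    ∃ x, ∀ n, x - s n ∈ I p R n := by
  refine ⟨WittVector.mk p fun i => (s (i + 1)).coeff i, fun n => (sub_mem_I_iff n _ _).2 fun i hi => ?_⟩
  rw [WittVector.coeff_mk]
  obtain ⟨d, rfl⟩ := Nat.exists_eq_add_of_le (Nat.succ_le_of_lt hi)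
  clear hi
  induction d with
  | zero => rfl
  | succ d ih => rw [ih, ← (sub_mem_I_iff (i + 1 + d) _ _).1 (h (i + 1 + d)) i (by omega), add_assoc]

theorem exists_eq_iterate {n : ℕ} {x : WittVector p R} (hx : x ∈ I p R n) :
    ∃ a, x = (WittVector.verschiebung)^[n] a ∧ a.coeff 0 = x.coeff n := by
  refine ⟨x.shift n, WittVector.eq_iterate_verschiebung fun i hi => (mem_I_iff n x).1 hx i hi, ?_⟩
  rw [WittVector.shift_coeff, Nat.add_zero]

theorem iterate_coeff (a : WittVector p R) (n : ℕ) :
    ((WittVector.verschiebung)^[n] a).coeff n = a.coeff 0 := by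
  simpa using WittVector.iterate_verschiebung_coeff a n 0

theorem frobenius_iterate_verschiebung (x : WittVector p R) (n : ℕ) :
    (WittVector.frobenius)^[n] ((WittVector.verschiebung)^[n] x) = x * (p : WittVector p R) ^ n := by
  induction n generalizing x with
  | zero => simp
  | succ n ih =>
    have h : ∀ (m : ℕ) (z : WittVector p R), (WittVector.frobenius)^[m] (z * (p : WittVector p R)) =
        (WittVector.frobenius)^[m] z * (p : WittVector p R) := fun m z => by
      induction m generalizing z with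
      | zero => rfl
      | succ m ihm => rw [Function.iterate_succ_apply, map_mul, map_natCast, ihm, ← Function.iterate_succ_apply]
    rw [Function.iterate_succ_apply, Function.iterate_succ_apply', WittVector.frobenius_verschiebung, h, ih,
      pow_succ, mul_assoc]

theorem coeff_mul_eq {n : ℕ} {x y : WittVector p R} (hx : x ∈ I p R n) (hy : y ∈ I p R n) :
    (x * y).coeff n = (p : R) ^ n * (x.coeff n * y.coeff n) := by
  obtain ⟨a, rfl, ha⟩ := exists_eq_iterate hx
  obtain ⟨b, rfl, hb⟩ := exists_eq_iterate hy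
  rw [← ha, ← hb, WittVector.iterate_verschiebung_mul_left, frobenius_iterate_verschiebung, iterate_coeff]
  show WittVector.constantCoeff (a * (b * (p : WittVector p R) ^ n)) = _
  rw [map_mul, map_mul, map_pow, map_natCast]
  show a.coeff 0 * (b.coeff 0 * _) = _
  ring

theorem coeff_add_eq {n : ℕ} {x y : WittVector p R} (hx : x ∈ I p R n) (hy : y ∈ I p R n) :
    (x + y).coeff n = x.coeff n + y.coeff n := by
  obtain ⟨a, rfl, ha⟩ := exists_eq_iterate hx
  obtain ⟨b, rfl, hb⟩ := exists_eq_iterate hy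
  rw [← ha, ← hb, ← iterate_map_add, iterate_coeff]
  exact map_add WittVector.constantCoeff a b

theorem dvd_coeff_of_mem_pow (n : ℕ) : ∀ (j : ℕ), ∀ x ∈ I p R n ^ (j + 1),
    x ∈ I p R n ∧ (p : R) ^ (n * j) ∣ x.coeff n := by
  intro j
  induction j with
  | zero => intro x hx; simpa using hx
  | succ j ih =>
    intro x hx
    rw [pow_succ] at hx
    induction hx using Submodule.mul_induction_on' with
    | mem_mul_mem a ha b hb =>
      obtain ⟨ha1, ⟨c, hc⟩⟩ := ih a ha
      refine ⟨Ideal.mul_mem_left _ _ hb, c * b.coeff n, ?_⟩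
      rw [coeff_mul_eq ha1 hb, hc, Nat.mul_succ, pow_add]
      ring
    | add a _ b _ ha hb =>
      refine ⟨add_mem ha.1 hb.1, ?_⟩
      rw [coeff_add_eq ha.1 hb.1]
      exact dvd_add ha.2 hb.2

theorem pow_le {N : ℕ} (hN : (p : R) ^ N = 0) (n : ℕ) :
    I p R (n + 1) ^ (N + 1) ≤ I p R (n + 2) := by
  intro x hx
  obtain ⟨h1, h2⟩ := dvd_coeff_of_mem_pow (n + 1) N x hx
  refine (mem_I_iff _ _).2 fun i hi => ?_
  rcases Nat.lt_or_ge i (n + 1) with h | h
  · exact (mem_I_iff _ _).1 h1 i h
  · obtain rfl : i = n + 1 := by omega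
    rw [pow_eq_zero_of_le (Nat.le_mul_of_pos_left N (Nat.succ_pos n)) hN] at h2
    exact zero_dvd_iff.1 h2

theorem exists_pow_mem (hp : IsNilpotent (p : R)) {x : WittVector p R} (hx : IsNilpotent (x.coeff 0))
    (n : ℕ) : ∃ k, x ^ k ∈ I p R n := by
  obtain ⟨N, hN⟩ := hp
  induction n with
  | zero => exact ⟨0, (mem_I_iff _ _).2 fun i hi => absurd hi (Nat.not_lt_zero i)⟩
  | succ n ih =>
    cases n with
    | zero =>
      obtain ⟨k, hk⟩ := hx
      refine ⟨k, (mem_I_iff _ _).2 fun i hi => ?_⟩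
      obtain rfl : i = 0 := by omega
      show WittVector.constantCoeff (x ^ k) = 0
      rw [map_pow]
      exact hk
    | succ n =>
      obtain ⟨k, hk⟩ := ih
      exact ⟨k * (N + 1), pow_mul x k (N + 1) ▸ pow_le hN n (Ideal.pow_mem_pow hk _)⟩

theorem exists_ideal_pow_le (hp : IsNilpotent (p : R)) {D : Ideal (WittVector p R)} (hD : D.FG)
    (h : ∀ x ∈ D, IsNilpotent (x.coeff 0)) (n : ℕ) : ∃ k, D ^ k ≤ I p R n :=
  Ideal.exists_pow_le_of_le_radical_of_fg (fun x hx => exists_pow_mem hp (h x hx) n) hD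

/-- A monotone choice of exponents. -/
theorem exists_mono {P : ℕ → ℕ → Prop} (h : ∀ n, ∃ k, P n k) (hP : ∀ n k l, k ≤ l → P n k → P n l) :
    ∃ f : ℕ → ℕ, Monotone f ∧ ∀ n, P n (f n) := by
  choose g hg using h
  exact ⟨fun n => ∑ i ∈ Finset.range (n + 1), g i,
    fun m n hmn => Finset.sum_le_sum_of_subset (Finset.range_mono (by omega)),
    fun n => hP n (g n) _ (Finset.single_le_sum (fun i _ => Nat.zero_le _) (Finset.self_mem_range_succ n)) (hg n)⟩

/-- Elements with nilpotent zeroth component lie in the Jacobson radical. -/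
theorem mem_jacobson (hp : IsNilpotent (p : R)) {x : WittVector p R} (hx : IsNilpotent (x.coeff 0)) :
    x ∈ Ideal.jacobson (⊥ : Ideal (WittVector p R)) := by
  rw [Ideal.mem_jacobson_bot]
  intro y
  have hz : IsNilpotent ((-(x * y)).coeff 0) := by
    show IsNilpotent (WittVector.constantCoeff (-(x * y)))
    rw [map_neg, map_mul]
    exact ((Commute.all _ _).isNilpotent_mul_right hx).neg
  set z := -(x * y) with hzdef
  obtain ⟨f, hf, hfz⟩ := exists_mono (P := fun n k => z ^ k ∈ I p R n) (exists_pow_mem hp hz)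
    (fun n k l hkl hk => by
      obtain ⟨d, rfl⟩ := Nat.exists_eq_add_of_le hkl
      rw [pow_add]
      exact Ideal.mul_mem_right _ _ hk)
  obtain ⟨v, hv⟩ := exists_limit (fun n => ∑ i ∈ Finset.range (f n), z ^ i) fun n => by
    obtain ⟨d, hd⟩ := Nat.exists_eq_add_of_le (hf n.le_succ)
    rw [hd, Finset.sum_range_add, add_sub_cancel_left]
    exact Ideal.sum_mem _ fun i _ => by rw [pow_add]; exact Ideal.mul_mem_right _ _ (hfz n)
  refine IsUnit.of_mul_eq_one v (sub_eq_zero.1 (eq_zero_of_forall_mem fun n => ?_))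
  have e : (x * y + 1) * v - 1 = (x * y + 1) * (v - ∑ i ∈ Finset.range (f n), z ^ i) +
      ((∑ i ∈ Finset.range (f n), z ^ i) * (1 - z) - 1) := by rw [hzdef]; ring
  rw [e, geom_sum_mul_neg, sub_sub_cancel_left]
  exact add_mem (Ideal.mul_mem_left _ _ (hv n)) (neg_mem (hfz n))

section Module

variable {P : Type*} [AddCommGroup P] [Module (WittVector p R) P]

theorem pi_iInf {d : ℕ} (v : Fin d → WittVector p R) (h : ∀ n j, v j ∈ I p R n) : v = 0 :=
  funext fun j => eq_zero_of_forall_mem fun n => h n j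

end Module

end Groth.Agent.WittProj
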