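import Mathlib

/-! Finite projective modules over a ring complete for a filtration with nilpotent steps. -/

namespace Groth.Agent.WittProj

variable {W : Type*} [CommRing W] {P : Type*} [AddCommGroup P] [Module W P]

theorem sup_pow_smul_eq_top {N : Submodule W P} {J : Ideal W} (h : N ⊔ J • ⊤ = ⊤) :
    ∀ k, N ⊔ J ^ k • (⊤ : Submodule W P) = ⊤ := by
  intro k
  induction k with
  | zero => simp
  | succ k ih =>
    refine le_antisymm le_top (ih.ge.trans (sup_le le_sup_left ?_))
    conv_lhs => rw [← h]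
    rw [Submodule.smul_sup, ← Submodule.mul_smul, ← pow_succ]
    exact sup_le_sup_right (Submodule.smul_le_right) _

theorem map_eq_zero_of_mem_smul {M : Type*} [AddCommGroup M] [Module W M] {J : Ideal W}
    (f : P →ₗ[W] M) (hM : ∀ a ∈ J, ∀ m : M, a • m = 0) {x : P} (hx : x ∈ J • (⊤ : Submodule W P)) : f x = 0 := by
  refine Submodule.smul_induction_on hx (fun a ha y _ => ?_) (fun a b ha hb => ?_)
  · rw [map_smul]; exact hM a ha _
  · rw [map_add, ha, hb, add_zero]

theorem smul_pi_quotient_eq_zero {ι : Type*} {J : Ideal W} {a : W} (ha : a ∈ J) (m : ι → W ⧸ J) : a • m = 0 := by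
  funext i
  show Ideal.Quotient.mk J a * m i = 0
  rw [Ideal.Quotient.eq_zero_iff_mem.2 ha, zero_mul]

variable (K : ℕ → Ideal W)

/-- The truncated linear combination. -/
noncomputable def qcomb {d : ℕ} (x : Fin d → P) (n : ℕ) :
    (Fin d → W ⧸ K n) →ₗ[W] P ⧸ (K n • ⊤ : Submodule W P) :=
  (Fintype.linearCombination (W ⧸ K n) (fun j => (Submodule.Quotient.mk (x j) : P ⧸ (K n • ⊤ : Submodule W P)))).restrictScalars W

theorem qcomb_mk {d : ℕ} (x : Fin d → P) (n : ℕ) (v : Fin d → W) :
    qcomb K x n (fun j => Ideal.Quotient.mk (K n) (v j)) = Submodule.Quotient.mk (∑ j, v j • x j) := by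
  show Fintype.linearCombination (W ⧸ K n) _ _ = _
  rw [Fintype.linearCombination_apply, ← Submodule.mkQ_apply, map_sum]
  rfl

theorem exists_mk_pi {d : ℕ} {n : ℕ} (v : Fin d → W ⧸ K n) : ∃ w : Fin d → W, (fun j => Ideal.Quotient.mk (K n) (w j)) = v := by
  choose w hw using fun j => Ideal.Quotient.mk_surjective (v j)
  exact ⟨w, funext hw⟩

theorem step (hK : Antitone K) {d : ℕ} (x : Fin d → P) (n : ℕ)
    (hsurj : Function.Surjective (qcomb K x (n + 1)))
    (hproj : Module.Projective (W ⧸ K (n + 1)) (P ⧸ (K (n + 1) • ⊤ : Submodule W P)))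
    (hnil : ∃ k, K n ^ k ≤ K (n + 1))
    (s : P →ₗ[W] (Fin d → W ⧸ K n)) (hs : ∀ y, qcomb K x n (s y) = Submodule.Quotient.mk y) :
    ∃ s' : P →ₗ[W] (Fin d → W ⧸ K (n + 1)), (∀ y, qcomb K x (n + 1) (s' y) = Submodule.Quotient.mk y) ∧
      ∀ y j, Ideal.Quotient.factor (hK n.le_succ) (s' y j) = s y j := by
  let red : (Fin d → W ⧸ K (n + 1)) →ₗ[W] (Fin d → W ⧸ K n) :=
    LinearMap.pi fun j => (Ideal.Quotient.factorₐ W (hK n.le_succ)).toLinearMap.comp (LinearMap.proj j)
  have hsker : (K (n + 1) • ⊤ : Submodule W P) ≤ LinearMap.ker s := fun z hz =>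
    map_eq_zero_of_mem_smul s (fun a ha m => smul_pi_quotient_eq_zero (hK n.le_succ ha) m) hz
  let g : (P ⧸ (K (n + 1) • ⊤ : Submodule W P)) →ₗ[W] (Fin d → W ⧸ K n) := Submodule.liftQ _ s hsker
  let f := qcomb K x (n + 1)
  obtain ⟨s₀, hs₀⟩ := Module.projective_lifting_property
    (Fintype.linearCombination (W ⧸ K (n + 1)) (fun j => (Submodule.Quotient.mk (x j) : P ⧸ (K (n + 1) • ⊤ : Submodule W P))))
    LinearMap.id hsurj
  have hy : ∀ j, ∃ y, red y = g (Submodule.Quotient.mk (x j)) := fun j => by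
    obtain ⟨w, hw⟩ := exists_mk_pi K (g (Submodule.Quotient.mk (x j)))
    exact ⟨fun i => Ideal.Quotient.mk _ (w i), by rw [← hw]; rfl⟩
  choose y hy using hy
  let L : (Fin d → W ⧸ K (n + 1)) →ₗ[W] (Fin d → W ⧸ K (n + 1)) :=
    (Fintype.linearCombination (W ⧸ K (n + 1)) y).restrictScalars W
  have hL : ∀ v, red (L v) = g (f v) := by
    intro v
    obtain ⟨w, rfl⟩ := exists_mk_pi K v
    have e1 : L (fun j => Ideal.Quotient.mk (K (n + 1)) (w j)) = ∑ j, w j • y j := by
      show Fintype.linearCombination _ y _ = _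
      rw [Fintype.linearCombination_apply]
      rfl
    rw [e1, map_sum, qcomb_mk, ← Submodule.mkQ_apply, map_sum, map_sum]
    exact Finset.sum_congr rfl fun j _ => by rw [map_smul, map_smul, map_smul, hy]; rfl
  let h := L.comp (s₀.restrictScalars W)
  have hh : ∀ q, red (h q) = g q := fun q => by
    show red (L (s₀ q)) = g q
    rw [hL]
    exact congrArg g (LinearMap.congr_fun hs₀ q)
  let φ := f.comp h
  have hclose : ∀ q, φ q - q ∈ K n • (⊤ : Submodule W (P ⧸ (K (n + 1) • ⊤ : Submodule W P))) := by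
    intro q
    obtain ⟨z, rfl⟩ := Submodule.Quotient.mk_surjective _ q
    obtain ⟨w, hw⟩ := exists_mk_pi K (h (Submodule.Quotient.mk z))
    have e1 : φ (Submodule.Quotient.mk z) = Submodule.Quotient.mk (∑ j, w j • x j) := by
      show f (h _) = _
      rw [← hw]
      exact qcomb_mk K x (n + 1) w
    have e2 : (∑ j, w j • x j) - z ∈ K n • (⊤ : Submodule W P) := by
      rw [← Submodule.Quotient.eq, ← qcomb_mk]
      have : (fun j => Ideal.Quotient.mk (K n) (w j)) = s z := by
        have := hh (Submodule.Quotient.mk z)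
        rw [← hw] at this
        exact this
      rw [this, hs]
    rw [e1, ← Submodule.Quotient.mk_sub]
    have e3 := Submodule.mem_map_of_mem (f := (K (n + 1) • ⊤ : Submodule W P).mkQ) e2
    rw [Submodule.map_smul'', Submodule.map_top, Submodule.range_mkQ] at e3
    exact e3
  have : Module.Finite W (P ⧸ (K (n + 1) • ⊤ : Submodule W P)) :=
    Module.Finite.of_surjective f hsurj
  have hφ : Function.Bijective φ := by
    refine OrzechProperty.bijective_of_surjective_endomorphism φ (LinearMap.range_eq_top.1 ?_)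
    obtain ⟨k, hk⟩ := hnil
    have htop : LinearMap.range φ ⊔ K n • ⊤ = ⊤ := eq_top_iff.2 fun q _ =>
      Submodule.mem_sup.2 ⟨φ q, ⟨q, rfl⟩, -(φ q - q), neg_mem (hclose q), by abel⟩
    have h' := sup_pow_smul_eq_top htop k
    rwa [show K n ^ k • (⊤ : Submodule W (P ⧸ (K (n + 1) • ⊤ : Submodule W P))) = ⊥ from ?_, sup_bot_eq] at h'
    refine le_bot_iff.1 ((Submodule.smul_mono_left hk).trans (Submodule.smul_le.2 fun a ha q _ => ?_))
    obtain ⟨z, rfl⟩ := Submodule.Quotient.mk_surjective _ q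
    rw [← Submodule.Quotient.mk_smul, Submodule.mem_bot, Submodule.Quotient.mk_eq_zero]
    exact Submodule.smul_mem_smul ha trivial
  let e := LinearEquiv.ofBijective φ hφ
  refine ⟨(h.comp e.symm.toLinearMap).comp (Submodule.mkQ _), fun z => e.apply_symm_apply _, fun z j => ?_⟩
  have key : g (e.symm (Submodule.Quotient.mk z)) = s z := by
    have h1 := hclose (e.symm (Submodule.Quotient.mk z))
    have h2 := map_eq_zero_of_mem_smul g (fun a ha m => smul_pi_quotient_eq_zero ha m) h1
    have e3 : φ (e.symm (Submodule.Quotient.mk z)) = Submodule.Quotient.mk z := e.apply_symm_apply _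
    rw [map_sub, e3, sub_eq_zero] at h2
    exact h2.symm
  have := congrFun ((hh (e.symm (Submodule.Quotient.mk z))).trans key) j
  exact this

theorem finite_projective_of_filtered (hK : Antitone K)
    (hlim : ∀ s : ℕ → W, (∀ n, s (n + 1) - s n ∈ K n) → ∃ x, ∀ n, x - s n ∈ K n)
    (hW : ∀ w : W, (∀ n, w ∈ K n) → w = 0) (hnil : ∀ n, ∃ k, K 0 ^ k ≤ K n)
    (hsep : ∀ y : P, (∀ n, y ∈ K n • (⊤ : Submodule W P)) → y = 0)
    (hfin : Module.Finite (W ⧸ K 0) (P ⧸ (K 0 • ⊤ : Submodule W P)))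
    (hproj : ∀ n, Module.Projective (W ⧸ K n) (P ⧸ (K n • ⊤ : Submodule W P))) :
    Module.Finite W P ∧ Module.Projective W P := by
  obtain ⟨d, f, hf⟩ := Module.Finite.exists_fin' (W ⧸ K 0) (P ⧸ (K 0 • ⊤ : Submodule W P))
  choose x hx using fun j => Submodule.Quotient.mk_surjective _ (f (Pi.single j 1))
  let π : (Fin d → W) →ₗ[W] P := Fintype.linearCombination W x
  have hπ : ∀ v, π v = ∑ j, v j • x j := fun v => Fintype.linearCombination_apply _ _ _
  have hgen : ∀ n (y : P), ∃ v, y - π v ∈ K n • (⊤ : Submodule W P) := by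
    intro n y
    have htop : LinearMap.range π ⊔ K 0 • ⊤ = ⊤ := eq_top_iff.2 fun z _ => by
      obtain ⟨v, hv⟩ := hf (Submodule.Quotient.mk z)
      obtain ⟨w, rfl⟩ := exists_mk_pi K v
      have : f (fun j => Ideal.Quotient.mk (K 0) (w j)) = Submodule.Quotient.mk (π w) := by
        rw [hπ, ← qcomb_mk]
        show f _ = Fintype.linearCombination (W ⧸ K 0) _ _
        rw [Fintype.linearCombination_apply, pi_eq_sum_univ' (fun j => Ideal.Quotient.mk (K 0) (w j)), map_sum]
        refine Finset.sum_congr rfl fun j _ => ?_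
        rw [map_smul, hx]
      refine Submodule.mem_sup.2 ⟨π w, ⟨w, rfl⟩, z - π w, (Submodule.Quotient.eq _).1 (hv.symm.trans this), by abel⟩
    obtain ⟨k, hk⟩ := hnil n
    obtain ⟨_, ⟨v, rfl⟩, b, hb, e⟩ := Submodule.mem_sup.1
      ((sup_pow_smul_eq_top htop k).ge (show y ∈ ⊤ from trivial))
    exact ⟨v, by rw [← e]; simpa using Submodule.smul_mono_left hk hb⟩
  have hsurj : ∀ n, Function.Surjective (qcomb K x n) := by
    intro n q
    obtain ⟨y, rfl⟩ := Submodule.Quotient.mk_surjective _ q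
    obtain ⟨v, hv⟩ := hgen n y
    exact ⟨fun j => Ideal.Quotient.mk _ (v j), by rw [qcomb_mk, ← hπ]; exact ((Submodule.Quotient.eq _).2 hv).symm⟩
  have h0 : ∃ s : P →ₗ[W] (Fin d → W ⧸ K 0), ∀ y, qcomb K x 0 (s y) = Submodule.Quotient.mk y := by
    have := hproj 0
    obtain ⟨s₀, hs₀⟩ := Module.projective_lifting_property
      (Fintype.linearCombination (W ⧸ K 0) (fun j => (Submodule.Quotient.mk (x j) : P ⧸ (K 0 • ⊤ : Submodule W P))))
      LinearMap.id (hsurj 0)
    exact ⟨(s₀.restrictScalars W).comp (Submodule.mkQ _), fun y => LinearMap.congr_fun hs₀ _⟩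
  choose next hnext1 hnext2 using fun (n : ℕ) (s : {s : P →ₗ[W] (Fin d → W ⧸ K n) // ∀ y, qcomb K x n (s y) = Submodule.Quotient.mk y}) =>
    step K hK x n (hsurj (n + 1)) (hproj (n + 1)) (by
      obtain ⟨k, hk⟩ := hnil (n + 1)
      exact ⟨k, (Ideal.pow_right_mono (hK (Nat.zero_le n)) k).trans hk⟩) s.1 s.2
  let S : ∀ n, {s : P →ₗ[W] (Fin d → W ⧸ K n) // ∀ y, qcomb K x n (s y) = Submodule.Quotient.mk y} :=
    fun n => Nat.rec ⟨h0.choose, h0.choose_spec⟩ (fun n s => ⟨next n s, hnext1 n s⟩) n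
  have hcomp : ∀ n y j, Ideal.Quotient.factor (hK n.le_succ) ((S (n + 1)).1 y j) = (S n).1 y j :=
    fun n y j => hnext2 n (S n) y j
  have hlimit : ∀ y j, ∃ w : W, ∀ n, Ideal.Quotient.mk (K n) w = (S n).1 y j := by
    intro y j
    choose c hc using fun n => Ideal.Quotient.mk_surjective ((S n).1 y j)
    obtain ⟨w, hw⟩ := hlim c fun n => by
      rw [← Ideal.Quotient.mk_eq_mk_iff_sub_mem, hc, ← hcomp, ← hc]
      rfl
    exact ⟨w, fun n => by rw [← hc, Ideal.Quotient.mk_eq_mk_iff_sub_mem]; exact hw n⟩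
  choose T hT using hlimit
  have hext : ∀ a b : W, (∀ n, Ideal.Quotient.mk (K n) a = Ideal.Quotient.mk (K n) b) → a = b := fun a b h =>
    sub_eq_zero.1 (hW _ fun n => (Ideal.Quotient.mk_eq_mk_iff_sub_mem a b).1 (h n))
  let σ : P →ₗ[W] (Fin d → W) :=
    { toFun := T
      map_add' := fun a b => funext fun j => hext _ _ fun n => by
        rw [hT, Pi.add_apply, map_add, map_add, hT, hT]; rfl
      map_smul' := fun c a => funext fun j => hext _ _ fun n => by
        rw [hT, RingHom.id_apply, Pi.smul_apply, smul_eq_mul, map_smul, map_mul, hT]; rfl }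
  have hid : π.comp σ = LinearMap.id := LinearMap.ext fun y => sub_eq_zero.1 (hsep _ fun n => by
    show π (T y) - y ∈ _
    rw [← Submodule.Quotient.eq, hπ, ← qcomb_mk]
    have : (fun j => Ideal.Quotient.mk (K n) (T y j)) = (S n).1 y := funext fun j => hT y j n
    rw [this]
    exact (S n).2 y)
  exact ⟨Module.Finite.of_surjective π (Function.LeftInverse.surjective (fun y => LinearMap.congr_fun hid y)),
    Module.Projective.of_split σ π hid⟩

/-- Quotients of a finite projective module are finite projective. -/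
theorem quotient_finite_projective [Module.Finite W P] [Module.Projective W P] (J : Ideal W) :
    Module.Finite (W ⧸ J) (P ⧸ (J • ⊤ : Submodule W P)) ∧
      Module.Projective (W ⧸ J) (P ⧸ (J • ⊤ : Submodule W P)) := by
  refine ⟨Module.Finite.of_restrictScalars_finite W _ _, ?_⟩
  obtain ⟨d, f, g, -, -, hfg⟩ := Module.Finite.exists_comp_eq_id_of_projective W P
  have hker : (J • ⊤ : Submodule W P) ≤ LinearMap.ker ((LinearMap.pi fun j => (Ideal.Quotient.mkₐ W J).toLinearMap.comp (LinearMap.proj j)).comp g) :=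
    fun z hz => map_eq_zero_of_mem_smul _ (fun a ha m => smul_pi_quotient_eq_zero ha m) hz
  let i₀ := Submodule.liftQ _ _ hker
  let r₀ : (Fin d → W ⧸ J) →ₗ[W] P ⧸ (J • ⊤ : Submodule W P) :=
    (Fintype.linearCombination (W ⧸ J) (fun j => (Submodule.Quotient.mk (f (Pi.single j 1)) : P ⧸ (J • ⊤ : Submodule W P)))).restrictScalars W
  refine Module.Projective.of_split (LinearMap.extendScalarsOfSurjective (Ideal.Quotient.mk_surjective (I := J)) i₀)
    (LinearMap.extendScalarsOfSurjective (Ideal.Quotient.mk_surjective (I := J)) r₀) (LinearMap.ext fun q => ?_)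
  obtain ⟨z, rfl⟩ := Submodule.Quotient.mk_surjective _ q
  show r₀ (i₀ (Submodule.Quotient.mk z)) = Submodule.Quotient.mk z
  show Fintype.linearCombination (W ⧸ J) _ (fun j => Ideal.Quotient.mk J (g z j)) = _
  rw [Fintype.linearCombination_apply]
  conv_rhs => rw [← LinearMap.id_apply (R := W) z, ← hfg, LinearMap.comp_apply, pi_eq_sum_univ' (g z), map_sum,
    ← Submodule.mkQ_apply, map_sum]
  refine Finset.sum_congr rfl fun j _ => ?_
  rw [map_smul, Submodule.mkQ_apply]
  rfl

theorem eq_zero_of_forall_mem_smul [Module.Finite W P] [Module.Projective W P]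
    (hW : ∀ w : W, (∀ n, w ∈ K n) → w = 0) {y : P} (hy : ∀ n, y ∈ K n • (⊤ : Submodule W P)) : y = 0 := by
  obtain ⟨d, f, g, -, -, hfg⟩ := Module.Finite.exists_comp_eq_id_of_projective W P
  have : g y = 0 := funext fun j => hW _ fun n => Ideal.Quotient.eq_zero_iff_mem.1
    (congrFun (map_eq_zero_of_mem_smul ((LinearMap.pi fun j => (Ideal.Quotient.mkₐ W (K n)).toLinearMap.comp (LinearMap.proj j)).comp g)
      (fun a ha m => smul_pi_quotient_eq_zero ha m) (hy n)) j)
  rw [← LinearMap.id_apply (R := W) y, ← hfg, LinearMap.comp_apply, this, map_zero]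

end Groth.Agent.WittProj
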