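import Mathlib

/-! Lifting idempotent matrices and finite projective modules along a surjection with topologically
nilpotent kernel. -/

namespace Groth.Agent.WittProj

open Matrix

variable {W W' : Type*} [CommRing W] [CommRing W'] {d : ℕ}

/-- All entries lie in the ideal. -/
def EntriesIn (I : Ideal W) (A : Matrix (Fin d) (Fin d) W) : Prop := ∀ i j, A i j ∈ I

theorem EntriesIn.mul {I I' : Ideal W} {A B : Matrix (Fin d) (Fin d) W} (hA : EntriesIn I A) (hB : EntriesIn I' B) :
    EntriesIn (I * I') (A * B) := fun i j => by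
  rw [Matrix.mul_apply]
  exact Ideal.sum_mem _ fun l _ => Ideal.mul_mem_mul (hA i l) (hB l j)

theorem EntriesIn.mul_right {I : Ideal W} {A : Matrix (Fin d) (Fin d) W} (hA : EntriesIn I A)
    (B : Matrix (Fin d) (Fin d) W) : EntriesIn I (A * B) := fun i j => by
  rw [Matrix.mul_apply]
  exact Ideal.sum_mem _ fun l _ => Ideal.mul_mem_right _ _ (hA i l)

/-- Newton step for idempotents. -/
def newton {A : Type*} [Ring A] (e : A) : A := 3 * (e * e) - 2 * (e * e * e)

theorem newton_sub {A : Type*} [Ring A] (e : A) : newton e - e = (e * e - e) * (1 - 2 * e) := by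
  unfold newton; noncomm_ring

theorem newton_sq_sub {A : Type*} [Ring A] (e : A) :
    newton e * newton e - newton e = (e * e - e) * (e * e - e) * (4 * (e * e - e) - 3) := by
  unfold newton; noncomm_ring

theorem newton_idem {A : Type*} [Ring A] {e : A} (he : e * e = e) : newton e = e := by
  rw [← sub_eq_zero, newton_sub, he, sub_self, zero_mul]

variable (φ : W →+* W') (K : ℕ → Ideal W)

theorem exists_idempotent_lift (hφ : Function.Surjective φ) (hK : Antitone K)
    (hlim : ∀ s : ℕ → W, (∀ n, s (n + 1) - s n ∈ K n) → ∃ x, ∀ n, x - s n ∈ K n)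
    (hW : ∀ w : W, (∀ n, w ∈ K n) → w = 0)
    (hclosed : ∀ x : W, (∀ n, ∃ y ∈ RingHom.ker φ, x - y ∈ K n) → x ∈ RingHom.ker φ)
    (hnil : ∀ D : Ideal W, D.FG → D ≤ RingHom.ker φ → ∀ n, ∃ k, D ^ k ≤ K n)
    (ε : Matrix (Fin d) (Fin d) W') (hε : ε * ε = ε) :
    ∃ e : Matrix (Fin d) (Fin d) W, e * e = e ∧ φ.mapMatrix e = ε := by
  choose E₀ hE₀ using fun i j => hφ (ε i j)
  have hE₀' : φ.mapMatrix (Matrix.of E₀) = ε := Matrix.ext hE₀
  let E : ℕ → Matrix (Fin d) (Fin d) W := fun k => Nat.rec (Matrix.of E₀) (fun _ e => newton e) k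
  have hEφ : ∀ k, φ.mapMatrix (E k) = ε := by
    intro k
    induction k with
    | zero => exact hE₀'
    | succ k ih =>
      show φ.mapMatrix (newton (E k)) = ε
      simp only [newton, map_sub, map_mul, map_ofNat, ih]
      exact newton_idem hε
  let D : Ideal W := Ideal.span (Set.range fun q : Fin d × Fin d => (E 0 * E 0 - E 0) q.1 q.2)
  have hD : D.FG := Submodule.fg_span (Set.finite_range _)
  have hDJ : D ≤ RingHom.ker φ := by
    rw [Ideal.span_le]
    rintro _ ⟨q, rfl⟩
    have h0 : φ.mapMatrix (E 0 * E 0 - E 0) = 0 := by rw [map_sub, map_mul, hEφ, hε, sub_self]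
    exact congrFun (congrFun h0 q.1) q.2
  have hδ : ∀ k, EntriesIn (D ^ 2 ^ k) (E k * E k - E k) := by
    intro k
    induction k with
    | zero => exact fun i j => by rw [pow_zero, pow_one]; exact Ideal.subset_span ⟨(i, j), rfl⟩
    | succ k ih =>
      show EntriesIn _ (newton (E k) * newton (E k) - newton (E k))
      rw [newton_sq_sub, pow_succ 2 k, pow_mul, pow_two]
      exact (ih.mul ih).mul_right _
  have hstep : ∀ k m, EntriesIn (D ^ 2 ^ k) (E (k + m) - E k) := by
    intro k m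
    induction m with
    | zero => intro i j; simp
    | succ m ih =>
      intro i j
      have e1 : (E (k + (m + 1)) - E k) i j = (newton (E (k + m)) - E (k + m)) i j + (E (k + m) - E k) i j := by
        show (newton (E (k + m)) - E k) i j = _
        simp only [Matrix.sub_apply]; ring
      rw [e1]
      refine add_mem ?_ (ih i j)
      rw [newton_sub]
      exact Ideal.pow_le_pow_right (Nat.pow_le_pow_right (by norm_num) (Nat.le_add_right k m))
        ((hδ (k + m)).mul_right _ i j)
  choose g hg using hnil D hD hDJ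
  let f : ℕ → ℕ := fun n => ∑ i ∈ Finset.range (n + 1), g i
  have hf : Monotone f := fun a b hab => Finset.sum_le_sum_of_subset (Finset.range_mono (by omega))
  have hfK : ∀ n, D ^ 2 ^ f n ≤ K n := fun n => (Ideal.pow_le_pow_right
    ((Finset.single_le_sum (fun i _ => Nat.zero_le _) (Finset.self_mem_range_succ n)).trans
      (Nat.lt_two_pow_self).le)).trans (hg n)
  have hlim' : ∀ i j, ∃ x, ∀ n, x - E (f n) i j ∈ K n := fun i j => hlim _ fun n => by
    obtain ⟨m, hm⟩ := Nat.exists_eq_add_of_le (hf n.le_succ)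
    rw [hm]
    exact hfK n (hstep (f n) m i j)
  choose e he using hlim'
  have hmod : ∀ n, (Ideal.Quotient.mk (K n)).mapMatrix (Matrix.of e) = (Ideal.Quotient.mk (K n)).mapMatrix (E (f n)) :=
    fun n => Matrix.ext fun i j => (Ideal.Quotient.mk_eq_mk_iff_sub_mem _ _).2 (he i j n)
  refine ⟨Matrix.of e, Matrix.ext fun i j => sub_eq_zero.1 (hW _ fun n => ?_), Matrix.ext fun i j => ?_⟩
  · rw [← Ideal.Quotient.eq_zero_iff_mem]
    have h1 : (Ideal.Quotient.mk (K n)).mapMatrix (Matrix.of e * Matrix.of e - Matrix.of e) =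
        (Ideal.Quotient.mk (K n)).mapMatrix (E (f n) * E (f n) - E (f n)) := by
      rw [map_sub, map_sub, map_mul, map_mul, hmod]
    exact (congrFun (congrFun h1 i) j).trans (Ideal.Quotient.eq_zero_iff_mem.2 (hfK n (hδ (f n) i j)))
  · have h : e i j - E₀ i j ∈ RingHom.ker φ := hclosed _ fun n => ⟨E (f n) i j - E₀ i j, by
      rw [RingHom.mem_ker, map_sub, hE₀, sub_eq_zero]
      exact congrFun (congrFun (hEφ (f n)) i) j, by
      rw [sub_sub_sub_cancel_right]; exact he i j n⟩
    rw [RingHom.mem_ker, map_sub, sub_eq_zero, hE₀] at h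
    exact h

variable {P : Type*} [AddCommGroup P] [Module W' P]

theorem exists_equiv_lift (hjac : RingHom.ker φ ≤ Ideal.jacobson ⊥) {P₁ P₂ : Type*} [AddCommGroup P₁]
    [Module W P₁] [Module.Finite W P₁] [Module.Projective W P₁] [AddCommGroup P₂]
    [Module W P₂] [Module.Finite W P₂] [Module.Projective W P₂] (π₁ : P₁ →ₛₗ[φ] P) (π₂ : P₂ →ₛₗ[φ] P)
    (h₁ : Function.Surjective π₁) (k₁ : LinearMap.ker π₁ = RingHom.ker φ • (⊤ : Submodule W P₁))
    (h₂ : Function.Surjective π₂) (k₂ : LinearMap.ker π₂ = RingHom.ker φ • (⊤ : Submodule W P₂)) :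
    ∃ e : P₁ ≃ₗ[W] P₂, ∀ x, π₂ (e x) = π₁ x := by
  let _ : Module W P := Module.compHom P φ
  let l₁ : P₁ →ₗ[W] P := { toFun := π₁, map_add' := π₁.map_add, map_smul' := fun c x => π₁.map_smulₛₗ c x }
  let l₂ : P₂ →ₗ[W] P := { toFun := π₂, map_add' := π₂.map_add, map_smul' := fun c x => π₂.map_smulₛₗ c x }
  obtain ⟨a, ha⟩ := Module.projective_lifting_property l₂ l₁ h₂
  obtain ⟨b, hb⟩ := Module.projective_lifting_property l₁ l₂ h₁
  have ha' : ∀ x, π₂ (a x) = π₁ x := fun x => LinearMap.congr_fun ha x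
  have hb' : ∀ x, π₁ (b x) = π₂ x := fun x => LinearMap.congr_fun hb x
  have hsa : Function.Surjective a := by
    rw [← LinearMap.range_eq_top, eq_top_iff]
    refine Submodule.le_of_le_smul_of_le_jacobson_bot (I := RingHom.ker φ) Module.Finite.fg_top hjac fun y _ => ?_
    obtain ⟨x, hx⟩ := h₁ (π₂ y)
    refine Submodule.mem_sup.2 ⟨a x, ⟨x, rfl⟩, y - a x, ?_, by abel⟩
    rw [← k₂, LinearMap.mem_ker, map_sub, ha', hx, sub_self]
  have hsb : Function.Surjective b := by
    rw [← LinearMap.range_eq_top, eq_top_iff]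
    refine Submodule.le_of_le_smul_of_le_jacobson_bot (I := RingHom.ker φ) Module.Finite.fg_top hjac fun y _ => ?_
    obtain ⟨x, hx⟩ := h₂ (π₁ y)
    refine Submodule.mem_sup.2 ⟨b x, ⟨x, rfl⟩, y - b x, ?_, by abel⟩
    rw [← k₁, LinearMap.mem_ker, map_sub, hb', hx, sub_self]
  have hba : Function.Injective (⇑b ∘ ⇑a) :=
    (OrzechProperty.bijective_of_surjective_endomorphism (b.comp a) (hsb.comp hsa)).1
  have hinj : Function.Injective a := hba.of_comp
  exact ⟨LinearEquiv.ofBijective a ⟨hinj, hsa⟩, ha'⟩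

end Groth.Agent.WittProj
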